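import Cfsg.Agent.Spor.Cert
import Cfsg.Agent.Spor.C3W.C0

set_option autoImplicit false
set_option maxRecDepth 100000000
set_option Elab.async false
set_option linter.unusedSectionVars false

namespace Cfsg.Agent.Spor.C3W

theorem hT : T.Ok 7 := T.ok_of 7 (show AllP (fun n => Net.okb 7 n = true) [n0, n1, n2, n3, n4, n5] from AllP.cons ok0 (AllP.cons ok1 (AllP.cons ok2 (AllP.cons ok3 (AllP.cons ok4 (AllP.cons ok5 (AllP.nil)))))))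

noncomputable def fP : ℕ → Equiv.Perm ℕ := T.fP gs

theorem hsq : ∀ j < 5, j < 5 → T.fP gs j * T.fP gs j = 1 :=
  Tab.sq (show AllP (fun z => evA T.τ [z, z] = 1) [1, 2, 3, 4, 5] from AllP.cons (hT.one rel0) (AllP.cons (hT.one rel1) (AllP.cons (hT.one rel2) (AllP.cons (hT.one rel3) (AllP.cons (hT.one rel4) (AllP.nil)))))) 5 rfl

theorem hiv : IvOk (2 * 5) (atm 5 (T.fP gs)) := ivOk_atm hsq

theorem pz1 : PZ T (atm 5 (T.fP gs)) EX 1 := PZ.of_atom (y := 2 * 0) (by decide +kernel) (atm_two_mul _ (by decide))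
theorem pz2 : PZ T (atm 5 (T.fP gs)) EX 2 := PZ.of_atom (y := 2 * 1) (by decide +kernel) (atm_two_mul _ (by decide))
theorem pz3 : PZ T (atm 5 (T.fP gs)) EX 3 := PZ.of_atom (y := 2 * 2) (by decide +kernel) (atm_two_mul _ (by decide))
theorem pz4 : PZ T (atm 5 (T.fP gs)) EX 4 := PZ.of_atom (y := 2 * 3) (by decide +kernel) (atm_two_mul _ (by decide))
theorem pz5 : PZ T (atm 5 (T.fP gs)) EX 5 := PZ.of_atom (y := 2 * 4) (by decide +kernel) (atm_two_mul _ (by decide))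
theorem pz6 : PZ T (atm 5 (T.fP gs)) EX 6 := PZ.of_def hiv (d := [3, 4, 3]) (AllP.cons pz3 (AllP.cons pz4 (AllP.cons pz3 (AllP.nil)))) (hT.one rel5) (by decide +kernel)
theorem pz7 : PZ T (atm 5 (T.fP gs)) EX 7 := PZ.of_inv hiv pz6 (by decide +kernel)
theorem hPZ : AllP (PZ T (atm 5 (T.fP gs)) EX) L :=
  show AllP (PZ T (atm 5 (T.fP gs)) EX) [1, 2, 3, 4, 5, 6, 7] from AllP.cons pz1 (AllP.cons pz2 (AllP.cons pz3 (AllP.cons pz4 (AllP.cons pz5 (AllP.cons pz6 (AllP.cons pz7 (AllP.nil)))))))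

theorem hrel : ∀ l ∈ RL, ev (atm 5 (T.fP gs)) l = 1 :=
  relAll_sound hiv (W := [[3, 2, 3, 2, 3, 2, 3, 2], [4, 2, 4, 2, 4, 2, 4, 2, 4, 2, 4, 2], [4, 3, 4, 3, 4, 3, 4, 3], [2, 3, 2, 3, 4, 2, 3, 2, 3, 4, 3, 2, 3, 2, 4], [2, 3, 4, 2, 3, 4, 3, 4, 2, 4, 2, 3, 4, 3, 4, 2, 4, 3, 2, 4, 3, 4], [2, 3, 2, 4, 2, 4, 2, 3, 4, 2, 3, 4, 2, 3, 4, 2, 3, 4, 2, 3, 4, 3, 2, 3, 4], [2, 1, 2, 1, 2, 1, 2, 1], [4, 1, 4, 1, 4, 1, 4, 1, 4, 1, 4, 1], [1, 2, 1, 2, 4, 1, 4, 2, 1, 2, 1, 4, 1, 4], [1, 2, 1, 4, 1, 2, 4, 2, 1, 4, 2, 4, 1, 4, 2, 4, 1, 2, 4, 1, 4, 2, 4], [1, 2, 4, 1, 2, 4, 1, 2, 4, 1, 2, 4, 1, 2, 4, 1, 2, 4], [3, 2, 4, 2, 4, 2, 3, 5], [1, 2, 4, 2, 4, 1, 4, 2, 4, 2, 5], [4, 2, 4, 2, 4, 3, 4, 2, 4, 3, 2, 3, 4, 2, 3, 2, 4, 3, 1, 3, 1, 3, 1], [4, 6, 4, 6], [2, 4, 2, 6, 2, 4, 2, 4, 2, 6, 4, 2, 6, 2, 4, 2, 6, 2, 6, 2, 4], [2, 4, 2, 4, 2, 4, 2, 4, 2, 4, 2, 4]]) (rules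 := [⟨[3, 2, 3, 2, 3, 2, 3, 2], [], 0, true⟩, ⟨[4, 2, 4, 2, 4, 2, 4, 2, 4, 2, 4, 2], [], 1, true⟩, ⟨[4, 3, 4, 3, 4, 3, 4, 3], [], 2, true⟩, ⟨[2, 3, 2, 3, 4, 2, 3, 2, 3, 4, 3, 2, 3, 2, 4], [], 3, true⟩, ⟨[2, 3, 4, 2, 3, 4, 3, 4, 2, 4, 2, 3, 4, 3, 4, 2, 4, 3, 2, 4, 3, 4], [], 4, true⟩, ⟨[2, 3, 2, 4, 2, 4, 2, 3, 4, 2, 3, 4, 2, 3, 4, 2, 3, 4, 2, 3, 4, 3, 2, 3, 4], [], 5, true⟩, ⟨[2, 1, 2, 1, 2, 1, 2, 1], [], 6, true⟩, ⟨[4, 1, 4, 1, 4, 1, 4, 1, 4, 1, 4, 1], [], 7, true⟩, ⟨[1, 2, 1, 2, 4, 1, 4, 2, 1, 2, 1, 4, 1, 4], [], 8, true⟩, ⟨[1, 2, 1, 4, 1, 2, 4, 2, 1, 4, 2, 4, 1, 4, 2, 4, 1, 2, 4, 1, 4, 2, 4], [], 9, true⟩, ⟨[1, 2, 4, 1, 2, 4, 1, 2, 4, 1, 2, 4, 1, 2, 4, 1, 2, 4], [], 10, true⟩, ⟨[3, 2, 4, 2, 4, 2, 3, 5], [], 11, true⟩, ⟨[1, 2, 4, 2, 4, 1, 4, 2, 4, 2, 5], [], 12, true⟩, ⟨[4, 2, 4, 2, 4, 3, 4, 2, 4, 3, 2, 3, 4, 2, 3, 2, 4, 3, 1, 3, 1, 3, 1],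 [], 13, true⟩, ⟨[4, 6, 4, 6], [], 14, true⟩, ⟨[2, 4, 2, 6, 2, 4, 2, 4, 2, 6, 4, 2, 6, 2, 4, 2, 6, 2, 6, 2, 4], [], 15, true⟩, ⟨[2, 4, 2, 4, 2, 4, 2, 4, 2, 4, 2, 4], [], 16, true⟩]) hPZ (AllP.cons (hT.one rel6) (AllP.cons (hT.one rel7) (AllP.cons (hT.one rel8) (AllP.cons (hT.one rel9) (AllP.cons (hT.one rel10) (AllP.cons (hT.one rel11) (AllP.cons (hT.one rel12) (AllP.cons (hT.one rel13) (AllP.cons (hT.one rel14) (AllP.cons (hT.one rel15) (AllP.cons (hT.one rel16) (AllP.cons (hT.one rel17) (AllP.cons (hT.one rel18) (AllP.cons (hT.one rel19) (AllP.cons (hT.one rel20) (AllP.cons (hT.one rel21) (AllP.cons (hT.one rel22) (AllP.nil)))))))))))))))))) (by decide +kernel)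

theorem hst : StepsOk F IV RT base 1433 3421 := (steps_sound' st0)

section
variable {G : Type} [Group G] {a : ℕ → G} (hi : IvOk (2 * 5) a) (hR : ∀ r ∈ RL, ev a r = 1)
  {H : Subgroup G} (hb : ∀ z ∈ base, letV a EX z ∈ H)
include hi hR hb

theorem let1 : LetOk H (letV a EX) T L 1 :=
  LetOk.of hT tl1 cov1 (AllP.cons (Just.rot hT hi hR rot1_1 rot1_1r) (AllP.cons (Just.rot hT hi hR rot1_2 rot1_2r) (AllP.cons (Just.rot hT hi hR rot1_3 rot1_3r) (AllP.cons (Just.rot hT hi hR rot1_4 rot1_4r) (AllP.cons (Just.rot hT hi hR rot1_5 rot1_5r) (AllP.cons (Just.rot hT hi hR rot1_6 rot1_6r) (AllP.cons (Just.rot hT hi hR rot1_7 rot1_7r) (AllP.cons (Just.rot hT hi hR rot1_8 rot1_8r) (AllP.cons (Just.rot hT hi hR rot1_9 rot1_9r) (AllP.cons (Just.rot hT hi hR rot1_10 rot1_10r) (AllP.cons (Just.rot hT hi hR rot1_11 rot1_11r) (AllP.cons (Just.rot hT hi hR rot1_12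 rot1_12r) (AllP.cons (Just.rot hT hi hR rot1_13 rot1_13r) (AllP.cons (Just.rot hT hi hR rot1_14 rot1_14r) (AllP.cons (Just.rot hT hi hR rot1_15 rot1_15r) (AllP.cons (Just.rot hT hi hR rot1_16 rot1_16r) (AllP.cons (Just.rot hT hi hR rot1_17 rot1_17r) (AllP.cons (Just.rot hT hi hR rot1_18 rot1_18r) (AllP.cons (Just.rot hT hi hR rot1_19 rot1_19r) (AllP.cons (Just.rot hT hi hR rot1_20 rot1_20r) (AllP.cons (Just.rot hT hi hR rot1_21 rot1_21r) (AllP.cons (Just.rot hT hi hR rot1_22 rot1_22r) (AllP.cons (Just.rot hT hi hR rot1_23 rot1_23r) (AllP.cons (Just.epi hT hi ep4a ep4b (seq_mem hi hR rfl hivk hrt H hb hdefs hst ep4c) ep4d) (AllP.cons (Just.epi hT hi ep8a ep8b (seq_mem hi hR rfl hivk hrt H hb hdefs hst ep8c) ep8d) (AllP.cons (Just.epi hT hi ep10a ep10b (seq_mem hi hR rfl hivk hrt H hb hdefs hst ep10c) ep10d) (AllP.cons (Just.epi hT hi ep13a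 ep13b (seq_mem hi hR rfl hivk hrt H hb hdefs hst ep13c) ep13d) (AllP.nil))))))))))))))))))))))))))))
theorem let2 : LetOk H (letV a EX) T L 2 :=
  LetOk.of hT tl2 cov2 (AllP.cons (Just.rot hT hi hR rot2_1 rot2_1r) (AllP.cons (Just.rot hT hi hR rot2_2 rot2_2r) (AllP.cons (Just.rot hT hi hR rot2_3 rot2_3r) (AllP.cons (Just.rot hT hi hR rot2_4 rot2_4r) (AllP.cons (Just.rot hT hi hR rot2_5 rot2_5r) (AllP.cons (Just.rot hT hi hR rot2_6 rot2_6r) (AllP.cons (Just.rot hT hi hR rot2_7 rot2_7r) (AllP.cons (Just.rot hT hi hR rot2_8 rot2_8r) (AllP.cons (Just.rot hT hi hR rot2_9 rot2_9r) (AllP.cons (Just.rot hT hi hR rot2_10 rot2_10r) (AllP.cons (Just.rot hT hi hR rot2_11 rot2_11r) (AllP.cons (Just.rot hT hi hR rot2_12 rot2_12r) (AllP.cons (Just.rot hT hi hR rot2_13 rot2_13r) (AllP.cons (Just.rot hT hi hR rot2_14 rot2_14r) (AllP.cons (Just.rot hT hi hR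 rot2_15 rot2_15r) (AllP.cons (Just.rot hT hi hR rot2_16 rot2_16r) (AllP.cons (Just.rot hT hi hR rot2_17 rot2_17r) (AllP.cons (Just.rot hT hi hR rot2_18 rot2_18r) (AllP.cons (Just.rot hT hi hR rot2_19 rot2_19r) (AllP.cons (Just.rot hT hi hR rot2_20 rot2_20r) (AllP.cons (Just.rot hT hi hR rot2_21 rot2_21r) (AllP.cons (Just.rot hT hi hR rot2_22 rot2_22r) (AllP.cons (Just.rot hT hi hR rot2_23 rot2_23r) (AllP.cons (Just.rot hT hi hR rot2_24 rot2_24r) (AllP.cons (Just.rot hT hi hR rot2_25 rot2_25r) (AllP.cons (Just.rot hT hi hR rot2_26 rot2_26r) (AllP.cons (Just.rot hT hi hR rot2_27 rot2_27r) (AllP.cons (Just.rot hT hi hR rot2_28 rot2_28r) (AllP.cons (Just.rot hT hi hR rot2_29 rot2_29r) (AllP.cons (Just.base (hb 2 (by decide))) (AllP.cons (Just.epi hT hi ep1a ep1b (seq_mem hi hR rfl hivk hrt H hb hdefs hst ep1c) ep1d) (AllP.cons (Just.epi hT hi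 ep14a ep14b (seq_mem hi hR rfl hivk hrt H hb hdefs hst ep14c) ep14d) (AllP.cons (Just.epi hT hi ep15a ep15b (seq_mem hi hR rfl hivk hrt H hb hdefs hst ep15c) ep15d) (AllP.nil))))))))))))))))))))))))))))))))))
theorem let3 : LetOk H (letV a EX) T L 3 :=
  LetOk.of hT tl3 cov3 (AllP.cons (Just.rot hT hi hR rot3_1 rot3_1r) (AllP.cons (Just.rot hT hi hR rot3_2 rot3_2r) (AllP.cons (Just.rot hT hi hR rot3_3 rot3_3r) (AllP.cons (Just.rot hT hi hR rot3_4 rot3_4r) (AllP.cons (Just.rot hT hi hR rot3_5 rot3_5r) (AllP.cons (Just.rot hT hi hR rot3_6 rot3_6r) (AllP.cons (Just.rot hT hi hR rot3_7 rot3_7r) (AllP.cons (Just.rot hT hi hR rot3_8 rot3_8r) (AllP.cons (Just.rot hT hi hR rot3_9 rot3_9r) (AllP.cons (Just.rot hT hi hR rot3_10 rot3_10r) (AllP.cons (Just.rot hT hi hR rot3_11 rot3_11r) (AllP.cons (Just.rot hT hi hR rot3_12 rot3_12r) (AllP.cons (Just.rot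 hT hi hR rot3_13 rot3_13r) (AllP.cons (Just.rot hT hi hR rot3_14 rot3_14r) (AllP.cons (Just.rot hT hi hR rot3_15 rot3_15r) (AllP.cons (Just.rot hT hi hR rot3_16 rot3_16r) (AllP.cons (Just.rot hT hi hR rot3_17 rot3_17r) (AllP.cons (Just.rot hT hi hR rot3_18 rot3_18r) (AllP.cons (Just.rot hT hi hR rot3_19 rot3_19r) (AllP.cons (Just.rot hT hi hR rot3_20 rot3_20r) (AllP.cons (Just.rot hT hi hR rot3_21 rot3_21r) (AllP.cons (Just.rot hT hi hR rot3_22 rot3_22r) (AllP.cons (Just.rot hT hi hR rot3_23 rot3_23r) (AllP.cons (Just.rot hT hi hR rot3_24 rot3_24r) (AllP.nil)))))))))))))))))))))))))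
theorem let4 : LetOk H (letV a EX) T L 4 :=
  LetOk.of hT tl4 cov4 (AllP.cons (Just.rot hT hi hR rot4_1 rot4_1r) (AllP.cons (Just.rot hT hi hR rot4_2 rot4_2r) (AllP.cons (Just.rot hT hi hR rot4_3 rot4_3r) (AllP.cons (Just.rot hT hi hR rot4_4 rot4_4r) (AllP.cons (Just.rot hT hi hR rot4_5 rot4_5r) (AllP.cons (Just.rot hT hi hR rot4_6 rot4_6r) (AllP.cons (Just.rot hT hi hR rot4_7 rot4_7r) (AllP.cons (Just.rot hT hi hR rot4_8 rot4_8r) (AllP.cons (Just.rot hT hi hR rot4_9 rot4_9r) (AllP.cons (Just.rot hT hi hR rot4_10 rot4_10r) (AllP.cons (Just.rot hT hi hR rot4_11 rot4_11r) (AllP.cons (Just.rot hT hi hR rot4_12 rot4_12r) (AllP.cons (Just.rot hT hi hR rot4_13 rot4_13r) (AllP.cons (Just.rot hT hi hR rot4_14 rot4_14r) (AllP.cons (Just.rot hT hi hR rot4_15 rot4_15r) (AllP.cons (Just.rot hT hi hR rot4_16 rot4_16r) (AllP.cons (Just.rot hT hi hR rot4_17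 rot4_17r) (AllP.cons (Just.rot hT hi hR rot4_18 rot4_18r) (AllP.cons (Just.rot hT hi hR rot4_19 rot4_19r) (AllP.cons (Just.rot hT hi hR rot4_20 rot4_20r) (AllP.cons (Just.rot hT hi hR rot4_21 rot4_21r) (AllP.cons (Just.rot hT hi hR rot4_22 rot4_22r) (AllP.cons (Just.rot hT hi hR rot4_23 rot4_23r) (AllP.cons (Just.rot hT hi hR rot4_24 rot4_24r) (AllP.cons (Just.rot hT hi hR rot4_25 rot4_25r) (AllP.cons (Just.rot hT hi hR rot4_26 rot4_26r) (AllP.cons (Just.rot hT hi hR rot4_27 rot4_27r) (AllP.cons (Just.rot hT hi hR rot4_28 rot4_28r) (AllP.cons (Just.base (hb 4 (by decide))) (AllP.cons (Just.epi hT hi ep2a ep2b (seq_mem hi hR rfl hivk hrt H hb hdefs hst ep2c) ep2d) (AllP.cons (Just.epi hT hi ep6a ep6b (seq_mem hi hR rfl hivk hrt H hb hdefs hst ep6c) ep6d) (AllP.cons (Just.epi hT hi ep7a ep7b (seq_mem hi hR rfl hivk hrt H hb hdefs hst ep7c)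 ep7d) (AllP.cons (Just.epi hT hi ep12a ep12b (seq_mem hi hR rfl hivk hrt H hb hdefs hst ep12c) ep12d) (AllP.cons (Just.epi hT hi ep16a ep16b (seq_mem hi hR rfl hivk hrt H hb hdefs hst ep16c) ep16d) (AllP.nil)))))))))))))))))))))))))))))))))))
theorem let5 : LetOk H (letV a EX) T L 5 :=
  LetOk.of hT tl5 cov5 (AllP.cons (Just.rot hT hi hR rot5_1 rot5_1r) (AllP.cons (Just.rot hT hi hR rot5_2 rot5_2r) (AllP.cons (Just.rot hT hi hR rot5_3 rot5_3r) (AllP.cons (Just.rot hT hi hR rot5_4 rot5_4r) (AllP.cons (Just.epi hT hi ep0a ep0b (seq_mem hi hR rfl hivk hrt H hb hdefs hst ep0c) ep0d) (AllP.cons (Just.epi hT hi ep3a ep3b (seq_mem hi hR rfl hivk hrt H hb hdefs hst ep3c) ep3d) (AllP.cons (Just.epi hT hi ep5a ep5b (seq_mem hi hR rfl hivk hrt H hb hdefs hst ep5c) ep5d) (AllP.cons (Just.epi hT hi ep9a ep9b (seq_mem hi hR rfl hivk hrt H hb hdefs hst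 ep9c) ep9d) (AllP.cons (Just.epi hT hi ep11a ep11b (seq_mem hi hR rfl hivk hrt H hb hdefs hst ep11c) ep11d) (AllP.nil))))))))))
theorem let6 : LetOk H (letV a EX) T L 6 :=
  LetOk.of' hT tl6 cov6 (AllP.cons (Just.rot hT hi hR rot6_1 rot6_1r) (AllP.cons (Just.rot hT hi hR rot6_2 rot6_2r) (AllP.cons (Just.rot hT hi hR rot6_3 rot6_3r) (AllP.cons (Just.rot hT hi hR rot6_4 rot6_4r) (AllP.cons (Just.base (hb 6 (by decide))) (AllP.nil))))))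
theorem let7 : LetOk H (letV a EX) T L 7 :=
  LetOk.of' hT tl7 cov7 (AllP.cons (Just.rot hT hi hR rot7_1 rot7_1r) (AllP.cons (Just.rot hT hi hR rot7_2 rot7_2r) (AllP.cons (Just.rot hT hi hR rot7_3 rot7_3r) (AllP.cons (Just.rot hT hi hR rot7_4 rot7_4r) (AllP.nil)))))
theorem hlet : AllP (LetOk H (letV a EX) T L) L :=
  show AllP (LetOk H (letV a EX) T L) [1, 2, 3, 4, 5, 6, 7] from AllP.cons (let1 hi hR hb) (AllP.cons (let2 hi hR hb) (AllP.cons (let3 hi hR hb) (AllP.cons (let4 hi hR hb) (AllP.cons (let5 hi hR hb) (AllP.cons (let6 hi hR hb) (AllP.cons (let7 hi hR hb) (AllP.nil)))))))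
end

theorem cert : Cert 5 5 RL BW fP 105 :=
  Cert.of hT ⟨hsq, hrel⟩ hPZ (fun _ _ _ hi hR _ hb => hlet hi hR hb) hcov hg (by decide +kernel)

end Cfsg.Agent.Spor.C3W
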